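import Cfsg.Agent.H125.DPi.Hall
import Cfsg.Agent.H506.DPL.Defs
import Cfsg.Agent.S0249

/-!
# S4247, row L, L1: `StHat`, `StHatCard`, `StTrans`, `StNoSL`, `StForm`, `StLift` of helper506 (helper125)
-/

set_option autoImplicit false
set_option linter.unusedSectionVars false

namespace Cfsg.Agent.H125.DPi.Bridge

open Module Matrix Cfsg Cfsg.Agent.H988.CPi Cfsg.Agent.H571.RV Cfsg.Agent.H817.DPi Cfsg.Agent.H202.RC
open Cfsg.Agent.H506.DPL
open scoped Pointwise

universe u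

section

variable {F : Type} [Field F] {n : ℕ}

theorem gam_eq : GamL F n = Sem F (Fin n → F) := rfl

/-- the identity -/
abbrev e0 (F : Type) [Field F] (n : ℕ) :
    ProjectiveSpecialLinearGroup (Fin n) F ≃* ProjectiveSpecialLinearGroup (Fin n) F := MulEquiv.refl _

theorem ind_iff {h : Equiv.Perm (Fin n → F)} (hh : h ∈ Sem F (Fin n → F))
    {α : MulAut (ProjectiveSpecialLinearGroup (Fin n) F)} : Ind h α ↔ Th (e0 F n) ⟨h, hh⟩ = α := by
  constructor
  · intro hi
    apply MulEquiv.ext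
    intro t
    obtain ⟨x, rfl⟩ := QuotientGroup.mk_surjective t
    rw [hi x (cjS ⟨h, hh⟩ x) fun v => (cjS_apply ⟨h, hh⟩ x v).symm]
    exact Th_mk (e0 F n) ⟨h, hh⟩ x
  · rintro rfl s s' hs
    exact Th_apply (e0 F n) ⟨h, hh⟩ (x := s) (x' := s') fun v => (hs v).symm

theorem mem_hat' {X : Subgroup (MulAut (ProjectiveSpecialLinearGroup (Fin n) F))} {h : Equiv.Perm (Fin n → F)} :
    h ∈ Cfsg.Agent.H125.DPi.hat (e0 F n) X ↔ h ∈ GamL F n ∧ ∃ α ∈ X, Ind h α := by
  rw [mem_hat]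
  constructor
  · rintro ⟨h1, h2⟩
    exact ⟨h1, _, h2, (ind_iff h1).2 rfl⟩
  · rintro ⟨h1, α, hα, hi⟩
    refine ⟨h1, ?_⟩
    rw [(ind_iff h1).1 hi]
    exact hα

theorem hat_eq (X : Subgroup (MulAut (ProjectiveSpecialLinearGroup (Fin n) F))) :
    Cfsg.Agent.H506.DPL.hat X = Cfsg.Agent.H125.DPi.hat (e0 F n) X := by
  apply le_antisymm
  · unfold Cfsg.Agent.H506.DPL.hat
    rw [Subgroup.closure_le]
    intro h hh
    exact mem_hat'.2 hh
  · intro h hh
    exact Subgroup.subset_closure (mem_hat'.1 hh)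

end

theorem st_hat : StHat := by
  intro F _ _ n X h _
  rw [hat_eq, mem_hat']

theorem mp_injective {F : Type} [Field F] {n : ℕ} :
    Function.Injective (mp : SpecialLinearGroup (Fin n) F → Equiv.Perm (Fin n → F)) := by
  intro a b h
  apply mulVec_eq
  intro v
  rw [← mp_apply, ← mp_apply, h]

theorem mp_mul {F : Type} [Field F] {n : ℕ} (a b : SpecialLinearGroup (Fin n) F) : mp (a * b) = mp a * mp b := by
  apply Equiv.ext
  intro v
  have h : (a * b : SpecialLinearGroup (Fin n) F).1 = a.1 * b.1 := Matrix.SpecialLinearGroup.coe_mul a b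
  rw [Equiv.Perm.mul_apply, mp_apply, mp_apply, mp_apply, h, mulVec_mulVec]

/-- `mp` as a homomorphism -/
noncomputable def mpH (F : Type) [Field F] (n : ℕ) : SpecialLinearGroup (Fin n) F →* Equiv.Perm (Fin n → F) where
  toFun := mp
  map_one' := by
    apply Equiv.ext
    intro v
    have h : (1 : SpecialLinearGroup (Fin n) F).1 = 1 := Matrix.SpecialLinearGroup.coe_one
    rw [mp_apply, h, one_mulVec]
    rfl
  map_mul' := mp_mul

theorem st_hatCard : StHatCard := by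
  intro F _ _ n X _
  rw [hat_eq]
  let N := Subgroup.center (SpecialLinearGroup (Fin n) F)
  let D : Subgroup (SpecialLinearGroup (Fin n) F) := (X.comap MulAut.conj).comap (QuotientGroup.mk' N)
  have h1 : Nat.card (X.comap MulAut.conj) ∣ Nat.card D := by
    have : (X.comap MulAut.conj) = D.map (QuotientGroup.mk' N) :=
      (Subgroup.map_comap_eq_self_of_surjective (QuotientGroup.mk'_surjective N) _).symm
    rw [this]
    exact Subgroup.card_map_dvd _ _
  have h2 : Nat.card (D.map (mpH F n)) = Nat.card D := Subgroup.card_map_of_injective mp_injective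
  refine h1.trans ?_
  rw [← h2]
  refine Subgroup.card_dvd_of_le ?_
  rintro _ ⟨x, hx, rfl⟩
  exact mp_mem_hat.2 hx

theorem AA_eq {F : Type} [Field F] {n : ℕ} (P : Subgroup (ProjectiveSpecialLinearGroup (Fin n) F))
    (K : Subgroup (MulAut (ProjectiveSpecialLinearGroup (Fin n) F))) : AA P K = pk P K := rfl

theorem st_trans : StTrans := by
  intro π F _ _ n P K B hn hc x y z hx hy hz hxy hxz hyz v w hv hw
  have hs : ∀ {a b : Fin n → F}, Sep (AA P K) a b → ∀ g ∈ Cfsg.Agent.H125.DPi.hat (e0 F n) (pk P K), ∀ c : F, g a ≠ c • b := by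
    intro a b h g hg
    refine h g ?_
    rw [hat_eq, AA_eq]
    exact hg
  obtain ⟨h, hh, c, h1⟩ := b_trans hn (e0 F n) hc hx hy hz (hs hxy) (hs hxz) (hs hyz) v w hv hw
  exact ⟨h, by rw [hat_eq]; exact hh, c, h1⟩

theorem not_comm {F : Type} [Field F] {n : ℕ} (hn : 3 ≤ n) :
    ¬ IsMulCommutative (ProjectiveSpecialLinearGroup (Fin n) F) := by
  intro hc
  let i0 : Fin n := ⟨0, by omega⟩
  let i1 : Fin n := ⟨1, by omega⟩
  have hi : i1 ≠ i0 := by
    intro h
    exact one_ne_zero (congrArg Fin.val h)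
  obtain ⟨x, hx⟩ := (slE (Pi.basisFun F (Fin n))).surjective
    (tv (LinearMap.proj i1 : Module.Dual F (Fin n → F)) (Pi.single i0 1) (by
      rw [LinearMap.proj_apply, Pi.single_eq_of_ne hi]))
  have h1 : Th (e0 F n) ⟨mp x, mp_mem x⟩ = 1 := by
    rw [Th_SL (e0 F n) ⟨mp x, mp_mem x⟩ (x := x) (mp_apply x)]
    apply MulEquiv.ext
    intro t
    rw [MulAut.conj_apply, MulAut.one_apply, mul_inv_eq_iff_eq_mul]
    exact hc.1.1 _ _
  obtain ⟨c, -, h2⟩ := (Th_ker (by omega) (e0 F n) ⟨mp x, mp_mem x⟩).1 h1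
  have h3 := congrFun (h2 (Pi.single i1 1)) i0
  have h4 : (mp x) (Pi.single i1 1) = Pi.single i1 1 + Pi.single i0 1 := by
    have h5 : (mp x) (Pi.single i1 1) =
        (slE (Pi.basisFun F (Fin n)) x : (Fin n → F) ≃ₗ[F] (Fin n → F)) (Pi.single i1 1) := rfl
    rw [h5, hx, tv_apply, LinearMap.proj_apply, Pi.single_eq_same, one_smul]
  change (mp x) (Pi.single i1 1) i0 = _ at h3
  rw [h4, Pi.add_apply, Pi.single_eq_of_ne hi.symm, Pi.single_eq_same, Pi.smul_apply, Pi.single_eq_of_ne hi.symm,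
    smul_zero, zero_add] at h3
  exact one_ne_zero h3

theorem st_noSL : StNoSL := by
  intro π F _ _ n P K B hn hc h
  have : IsSimpleGroup (ProjectiveSpecialLinearGroup (Fin n) F) := S0249.result n hn
  have : Finite (ProjectiveSpecialLinearGroup (Fin n) F) := Quotient.finite (QuotientGroup.leftRel _)
  refine not_sl_le (not_comm hn) hc (e0 F n) fun g hg => ?_
  obtain ⟨k, hk, h1⟩ := h g hg
  exact ⟨k, by rw [← hat_eq]; exact hk, h1⟩

theorem st_form : StForm := by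
  intro π F _ _ n P P' K hn hfix hL h hh
  rw [hat_eq, AA_eq] at hh
  obtain ⟨h1, h2⟩ := mem_hat.1 hh
  obtain ⟨x, hx, k, hk, h3⟩ := (mem_pk hfix).1 h2
  obtain ⟨s, hs, rfl⟩ := hL.up x hx
  have h4 : (mp s)⁻¹ * h ∈ Sem F (Fin n → F) := mul_mem (inv_mem (mp_mem s)) h1
  refine ⟨s, (mp s)⁻¹ * h, k, hs, h4, hk, (ind_iff h4).2 ?_, fun v => ?_⟩
  · have h5 : (⟨(mp s)⁻¹ * h, h4⟩ : Sem F (Fin n → F)) = ⟨mp s, mp_mem s⟩⁻¹ * ⟨h, h1⟩ := rfl
    rw [h5, map_mul, map_inv, Th_SL (e0 F n) ⟨mp s, mp_mem s⟩ (x := s) (mp_apply s), h3]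
    exact inv_mul_cancel_left _ _
  · rw [← mp_apply]
    change h v = (mp s * ((mp s)⁻¹ * h)) v
    rw [mul_inv_cancel_left]

/-- `StLift` from S4350 -/
theorem st_lift (h4350 : ∀ (G : Type) [Group G] [Finite G] (π : Set ℕ), 2 ∉ π → ∀ H K : Subgroup G, IsPiHall π H →
    IsPiHall π K → ∃ g : G, K = MulAut.conj g • H) : StLift := by
  intro π p F _ _ _ n P hp hpπ h2 hn hP
  have : Finite (ProjectiveSpecialLinearGroup (Fin n) F) := Quotient.finite (QuotientGroup.leftRel _)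
  have hC : IsCPiGroup π (ProjectiveSpecialLinearGroup (Fin n) F) := by
    refine ⟨⟨P, hP⟩, fun H K hH hK => ?_⟩
    obtain ⟨g, hg⟩ := h4350 _ π h2 H K hH hK
    exact ⟨g, by rw [conj_eq]; exact hg⟩
  obtain ⟨H, hH, -, h3, h4⟩ := hall_gl (e0 F n) h2 hC hP
  exact ⟨H, hH, h3, h4⟩

end Cfsg.Agent.H125.DPi.Bridge
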