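import Cfsg.Agent.H125.DPi.Trans
import Cfsg.Agent.H380.RV.Tr

/-!
# S4247, row L (`PSL_n`), L1: the Hall subgroup of `GL_n(F)` over `P` (helper125)

* `exists_hall_lift` : general (`GL`, `GU`, …); `hall_gl`.
-/

set_option autoImplicit false
set_option linter.unusedSectionVars false

namespace Cfsg.Agent.H125.DPi

open Subgroup Cfsg Cfsg.Agent.H988.CPi Cfsg.Agent.H571.RV Cfsg.Agent.H808.RV Cfsg.Agent.H380.RV
open scoped Pointwise

universe u

variable {π : Set ℕ}

theorem cpi_of_comm {Q : Type*} [Group Q] [Finite Q] (h : ∀ a b : Q, a * b = b * a) : IsCPiGroup π Q := by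
  let _ : CommGroup Q := { (inferInstance : Group Q) with mul_comm := h }
  exact cpi_of_solvable (inferInstance : Group.IsSolvable Q)

/-- **a Hall subgroup over a given one** -/
theorem exists_hall_lift {Y S A K : Type*} [Group Y] [Finite Y] [Group S] [Finite S] [CommGroup A] [Group K]
    (δ : Y →* A) (j : K →* Y) (hj : Function.Injective j) (hjδ : j.range = δ.ker) (f : K →* S)
    (hf : Function.Surjective f) (hc : f.ker ≤ center K) (hC : IsCPiGroup π S) {P : Subgroup S}
    (hP : IsPiHall π P) : ∃ H : Subgroup Y, IsPiHall π H ∧ (H.comap j).map f = P := by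
  have : Finite K := Finite.of_injective _ hj
  have hK : IsCPiGroup π K := by
    refine cpi_extension f.ker (cpi_of_comm fun a b => Subtype.ext (mem_center_iff.1 (hc b.2) a.1))
      (cpi_congr (QuotientGroup.quotientKerEquivOfSurjective f hf).symm hC)
  let e : K ≃* δ.ker := (MonoidHom.ofInjective hj).trans (MulEquiv.subgroupCongr hjδ)
  have hQ : IsCPiGroup π (Y ⧸ δ.ker) := cpi_of_comm fun a b =>
    QuotientGroup.kerLift_injective δ (by rw [map_mul, map_mul, mul_comm])
  obtain ⟨H₀, hH₀⟩ := (cpi_extension δ.ker (cpi_congr e hK) hQ).1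
  have h1 : IsPiHall π (H₀.comap j) := by
    have h2 := isPiHall_subgroupOf hH₀ δ.ker
    have h3 : H₀.comap j = (H₀.subgroupOf δ.ker).map e.symm.toMonoidHom := by
      ext x
      constructor
      · intro hx
        exact ⟨e x, hx, e.symm_apply_apply x⟩
      · rintro ⟨y, hy, rfl⟩
        have : j (e.symm y) = y.1 := congrArg Subtype.val (e.apply_symm_apply y)
        change j (e.symm y) ∈ H₀
        rw [this]
        exact hy
    rw [h3]
    exact (isPiHall_map e.symm).2 h2
  have h2 : IsPiHall π ((H₀.comap j).map f) :=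
    ⟨PiN.of_dvd h1.1 (card_map_dvd _ _), PiN'.of_dvd h1.2 (index_map_dvd _ hf)⟩
  obtain ⟨s, hs⟩ := hC.2 _ _ h2 hP
  obtain ⟨k, rfl⟩ := hf s
  refine ⟨H₀.map (MulAut.conj (j k)).toMonoidHom, (isPiHall_map (MulAut.conj (j k))).2 hH₀, ?_⟩
  rw [hs]
  ext x
  constructor
  · rintro ⟨y, ⟨z, hz, hzy⟩, rfl⟩
    refine ⟨f (k⁻¹ * y * k), ⟨k⁻¹ * y * k, ?_, rfl⟩, ?_⟩
    · change j _ ∈ H₀
      rw [map_mul, map_mul, map_inv, ← hzy]
      have : (j k)⁻¹ * (MulAut.conj (j k)).toMonoidHom z * j k = z := by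
        simp only [MulEquiv.toMonoidHom_eq_coe, MonoidHom.coe_coe, MulAut.conj_apply]
        group
      rw [this]
      exact hz
    · simp only [MulEquiv.toMonoidHom_eq_coe, MonoidHom.coe_coe, MulAut.conj_apply, map_mul, map_inv]
      group
  · rintro ⟨_, ⟨y, hy, rfl⟩, rfl⟩
    refine ⟨k * y * k⁻¹, ⟨j y, hy, ?_⟩, ?_⟩
    · simp only [MulEquiv.toMonoidHom_eq_coe, MonoidHom.coe_coe, MulAut.conj_apply, map_mul, map_inv]
    · simp only [MulEquiv.toMonoidHom_eq_coe, MonoidHom.coe_coe, MulAut.conj_apply, map_mul, map_inv]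

variable {F : Type} [Field F] [Fintype F] {n : ℕ} {S : Type u} [Group S]

/-- **the Hall subgroup of `GL_n(F)`** -/
theorem hall_gl [Finite S] (e : S ≃* Matrix.ProjectiveSpecialLinearGroup (Fin n) F) (h2 : 2 ∉ π)
    (hC : IsCPiGroup π S) {P : Subgroup S} (hP : IsPiHall π P) :
    ∃ H : Subgroup (GL (Fin n) F), IsPiHall π H ∧ Odd (Nat.card H) ∧
      (∀ x : Matrix.SpecialLinearGroup (Fin n) F, Matrix.SpecialLinearGroup.toGL x ∈ H →
        e.symm (QuotientGroup.mk x) ∈ P) ∧
      ∀ s ∈ P, ∃ x : Matrix.SpecialLinearGroup (Fin n) F, Matrix.SpecialLinearGroup.toGL x ∈ H ∧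
        e.symm (QuotientGroup.mk x) = s := by
  obtain ⟨H, hH, h1⟩ := exists_hall_lift (π := π) (Matrix.GeneralLinearGroup.det (n := Fin n) (R := F))
    (Matrix.SpecialLinearGroup.toGL (n := Fin n) (R := F)) (fun a b h => Subtype.ext (congrArg Units.val h)) (by
      ext g
      rw [MonoidHom.mem_range, MonoidHom.mem_ker, Units.ext_iff]
      constructor
      · rintro ⟨x, rfl⟩
        exact x.2
      · intro h
        exact ⟨⟨g.1, h⟩, Units.ext rfl⟩)
    (e.symm.toMonoidHom.comp (QuotientGroup.mk' (Subgroup.center (Matrix.SpecialLinearGroup (Fin n) F))))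
    (e.symm.surjective.comp (QuotientGroup.mk'_surjective _)) (by
      intro x hx
      rw [MonoidHom.mem_ker] at hx
      have h3 : e.symm (QuotientGroup.mk' (Subgroup.center (Matrix.SpecialLinearGroup (Fin n) F)) x) = 1 := hx
      rw [e.symm.map_eq_one_iff] at h3
      exact (QuotientGroup.eq_one_iff x).1 h3) hC hP
  refine ⟨H, hH, odd_of_piN h2 hH.1, fun x hx => ?_, fun s hs => ?_⟩
  · rw [← h1]
    exact ⟨x, hx, rfl⟩
  · rw [← h1] at hs
    obtain ⟨x, hx, rfl⟩ := hs
    exact ⟨x, hx, rfl⟩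

end Cfsg.Agent.H125.DPi
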