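import Cfsg.Agent.H715.DPU.Def
import Cfsg.Agent.S2536

/-!
# S4247, row PSU, task G: the permutation part (helper125)
-/

set_option autoImplicit false
set_option linter.unusedSectionVars false

namespace Cfsg.Agent.H125.DPi.RelCz

open Module Subgroup Cfsg Matrix Cfsg.Agent.H988.CPi Cfsg.Agent.H571.RV Cfsg.Agent.H817.DPi Cfsg.Agent.H380.RV
  Cfsg.Agent.H553.RV Cfsg.Agent.H167.OP Cfsg.Agent.H170.HL Cfsg.Agent.H556.HallRowAbs Cfsg.Agent.H556.HallLB
  Cfsg.Agent.H556.HallSmallCen Cfsg.Agent.H715.DPU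

section gen

variable {F : Type*} [Field F] {V : Type*} [AddCommGroup V] [Module F V] {Y : Type*} [Group Y]
  {ρ : Representation F Y V}

/-- `t`-elements of `H` with supports in a space of dimension `< t` commute -/
theorem comm_of_sup [FiniteDimensional F V] [Finite Y] (hinj : Function.Injective ρ) {H : Subgroup Y} (hH : HC F H)
    {t : ℕ} (ht : t.Prime) (htF : (t : F) ≠ 0) {x y : Y} (hxH : x ∈ H) (hx : ∃ k : ℕ, x ^ t ^ k = 1) (hyH : y ∈ H)
    (hy : ∃ k : ℕ, y ^ t ^ k = 1) (hd : finrank F (Rg ρ x ⊔ Rg ρ y : Submodule F V) < t) : x * y = y * x := by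
  have := Fact.mk ht
  set L : Subgroup Y := Subgroup.closure {x, y} with hL
  have hxL : x ∈ L := Subgroup.subset_closure (by simp)
  have hyL : y ∈ L := Subgroup.subset_closure (by simp)
  have hLH : L ≤ H := by
    rw [hL, Subgroup.closure_le]
    intro a ha
    simp only [Set.mem_insert_iff, Set.mem_singleton_iff] at ha
    rcases ha with rfl | rfl
    · exact hxH
    · exact hyH
  have hLc := hH.mono hLH
  have hdim : finrank F (CV ρ L) < t := by
    have h1 : CV ρ L ≤ Rg ρ x ⊔ Rg ρ y := by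
      rw [hL]
      refine CV_closure_le ?_
      intro a ha
      simp only [Set.mem_insert_iff, Set.mem_singleton_iff] at ha
      rcases ha with rfl | rfl
      · exact le_sup_left
      · exact le_sup_right
    exact (Submodule.finrank_mono h1).trans_lt hd
  have hC : CenH t L := by
    intro y' hy' r hrp hrt R hR hn
    by_cases hd : r ∣ Nat.card L
    · obtain ⟨h2, hrF⟩ := hLc.ok r hrp hd
      have h1 := small_cen ρ hinj ht hrp h2 hrt hrF L hdim y'.2 (by
        obtain ⟨k, hk⟩ := hy'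
        exact ⟨k, congrArg Subtype.val hk⟩) (R := R.map L.subtype) (Subgroup.map_subtype_le _) (by
        rintro _ ⟨x, hx, rfl⟩
        obtain ⟨k, hk⟩ := hR ⟨x, hx⟩
        exact ⟨k, congrArg (fun z : R => ((z : L) : Y)) hk⟩) (by
        rintro _ ⟨x, hx, rfl⟩
        exact ⟨_, hn x hx, rfl⟩)
      intro d hd
      exact Subtype.ext (h1 d ⟨d, hd, rfl⟩)
    · intro d hdR
      obtain ⟨k, hk⟩ := hR ⟨d, hdR⟩
      have h1 : d ^ r ^ k = 1 := congrArg Subtype.val hk
      have h5 : Nat.Coprime (r ^ k) (Nat.card L) := Nat.Coprime.pow_left _ ((Nat.Prime.coprime_iff_not_dvd hrp).mpr hd)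
      have h6 : orderOf d ∣ 1 := by
        rw [← h5]
        exact Nat.dvd_gcd (orderOf_dvd_of_pow_eq_one h1) (orderOf_dvd_natCard d)
      rw [orderOf_eq_one_iff.mp (Nat.dvd_one.mp h6), mul_one, one_mul]
  have hgen : Subgroup.closure {x : L | ∃ k : ℕ, x ^ t ^ k = 1} = ⊤ := by
    rw [eq_top_iff, ← Subgroup.closure_closure_coe_preimage (k := ({x, y} : Set Y))]
    apply Subgroup.closure_mono
    rintro ⟨a, ha⟩ ham
    have h' : a = x ∨ a = y := by
      rcases ham with h | h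
      · exact Or.inl h
      · exact Or.inr h
    rcases h' with rfl | rfl
    · obtain ⟨k, hk⟩ := hx
      exact ⟨k, Subtype.ext hk⟩
    · obtain ⟨k, hk⟩ := hy
      exact ⟨k, Subtype.ext hk⟩
  have hLp : IsPGroup t L := isPGroup_of_cenH hLc.sol hC hgen
  obtain ⟨n, hn⟩ := IsPGroup.iff_card.mp hLp
  have hLF : (Nat.card L : F) ≠ 0 := by rw [hn]; exact cardNeOfPow htF
  have h1 := Cfsg.Agent.H556.SmallAb.comm_of_small' (res ρ L) hLF (by
    intro r hr hd
    rw [hn] at hd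
    rw [(Nat.prime_dvd_prime_iff_eq hr ht).mp (hr.dvd_of_dvd_pow hd)]
    exact hdim) ⟨x, hxL⟩ ⟨y, hyL⟩
  have hg : ρ (x * y * x⁻¹ * y⁻¹) = 1 := by
    have hgL : x * y * x⁻¹ * y⁻¹ ∈ L := L.mul_mem (L.mul_mem (L.mul_mem hxL hyL) (L.inv_mem hxL)) (L.inv_mem hyL)
    refine eq_one_of_res ρ hgL (n := Nat.card L) ?_ hLF ?_
    · exact congrArg Subtype.val (pow_card_eq_one' (x := (⟨_, hgL⟩ : L)))
    · intro w hw
      have h2 : (⟨x * y * x⁻¹ * y⁻¹, hgL⟩ : L) = (⟨x, hxL⟩ * ⟨y, hyL⟩) * (⟨y, hyL⟩ * ⟨x, hxL⟩)⁻¹ := by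
        apply Subtype.ext
        show x * y * x⁻¹ * y⁻¹ = (x * y) * (y * x)⁻¹
        group
      have h3 : res ρ L ⟨x * y * x⁻¹ * y⁻¹, hgL⟩ = 1 := by
        rw [h2, map_mul, h1, ← map_mul, mul_inv_cancel, map_one]
      exact congrArg Subtype.val (LinearMap.congr_fun h3 ⟨w, hw⟩)
  have h2 : x * y * x⁻¹ * y⁻¹ = 1 := hinj (by rw [hg, map_one])
  calc x * y = (x * y * x⁻¹ * y⁻¹) * (y * x) := by group
    _ = y * x := by rw [h2, one_mul]

variable [FiniteDimensional F V] [Finite Y] {e : ℕ → ℕ} {X H : Subgroup Y} {t m : ℕ} {f : Fin m → Y}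

theorem et_lt (D : LinDat ρ e X) (ht : t.Prime) (htF : (t : F) ≠ 0) : e t < t := by
  have h1 := Nat.le_of_dvd (by have := ht.two_le; omega) (D.row.edvd t ht htF)
  have := ht.two_le
  omega

/-- the normaliser of an atom -/
theorem conj_pow (D : LinDat ρ e X) (hH : HC F H) (ht : t.Prime) (hodd : Odd t) (htF : (t : F) ≠ 0)
    {z h : Y} (hz : IsZ ρ e t z) (hzH : z ∈ H) (hh : h ∈ H) (hs : (Rg ρ z).map (ρ h) = Rg ρ z) :
    ∃ j : ℕ, h * z * h⁻¹ = z ^ j := by
  have h1 : h * z * h⁻¹ ∈ H := H.mul_mem (H.mul_mem hh hzH) (H.inv_mem hh)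
  have h2 : IsZ ρ e t (h * z * h⁻¹) := hz.conj h
  have h3 : Rg ρ (h * z * h⁻¹) = Rg ρ z := by rw [Rg_conj, hs]
  refine mem_zpowers_of_Rg D.row ht hodd htF hz h2.1 ?_ h3.le
  refine comm_of_sup D.row.inj hH ht htF hzH ⟨1, by rw [pow_one]; exact hz.1⟩ h1 ⟨1, by rw [pow_one]; exact h2.1⟩ ?_
  rw [h3, sup_idem, finrank_Rg, hz.2]
  exact et_lt D ht htF

theorem ne_one (D : LinDat ρ e X) (ht : t.Prime) (htF : (t : F) ≠ 0) {z : Y} (hz : IsZ ρ e t z) : z ≠ 1 := by
  rintro rfl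
  have h1 := hz.2
  have h2 := D.row.epos t ht htF
  have h3 : Rg ρ (1 : Y) = ⊥ := by
    rw [eq_bot_iff]
    rintro _ ⟨v, rfl⟩
    rw [Submodule.mem_bot, map_one, sub_self]
    rfl
  rw [← finrank_Rg, h3, finrank_bot] at h1
  omega

theorem frame_inj (D : LinDat ρ e X) (ht : t.Prime) (htF : (t : F) ≠ 0) (hf : Fm ρ e H t m f) {i j : Fin m}
    (h : Rg ρ (f i) = Rg ρ (f j)) : i = j := by
  by_contra hij
  have h1 : Rg ρ (f i) = ⊥ := by
    rw [eq_bot_iff]
    intro w hw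
    rw [Submodule.mem_bot]
    refine eq_zero_of_fix htF (hf.isZ i).1 hw ?_
    rw [h] at hw
    obtain ⟨v, rfl⟩ := mem_Rg.mp hw
    exact hf.ind i j hij v
  have h2 : finrank F (Rg ρ (f i)) = 0 := by rw [h1, finrank_bot]
  rw [finrank_Rg, (hf.isZ i).2] at h2
  have := D.row.epos t ht htF
  omega

theorem pos (D : LinDat ρ e X) (ht : t.Prime) (hodd : Odd t) (htF : (t : F) ≠ 0) (hd : t ∣ Nat.card Y)
    (hf : Fm ρ e H t m f) : 0 < m := by
  by_contra h0
  have h1 := hf.max ⊤ (fun i => absurd i.2 (by omega))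
  obtain ⟨x, hx⟩ := @exists_prime_orderOf_dvd_card' _ _ _ t (Fact.mk ht) hd
  have h2 := le_rk_of_ne D.row ht hodd htF (y := x) (by rw [← hx]; exact pow_orderOf_eq_one x) (by
    rintro rfl
    rw [orderOf_one] at hx
    exact ht.one_lt.ne hx)
  have h3 := Submodule.finrank_mono (le_top : Rg ρ x ≤ ⊤)
  rw [finrank_Rg] at h3
  omega

/-- the action on the supports -/
theorem exists_perm (D : LinDat ρ e X) (ht : t.Prime) (htF : (t : F) ≠ 0) (hf : Fm ρ e H t m f)
    (hst : ∀ h ∈ H, ∀ i, ∃ i', (Rg ρ (f i)).map (ρ h) = Rg ρ (f i')) {π : Set ℕ} (hH : IsPiHall π H) :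
    ∃ φ : H →* Equiv.Perm (Fin m), (∀ (h : H) i, (Rg ρ (f i)).map (ρ h) = Rg ρ (f (φ h i))) ∧
      IsPiHall π φ.range := by
  classical
  let N : Subgroup Y :=
    { carrier := {y | ∃ σ : Equiv.Perm (Fin m), ∀ i, (Rg ρ (f i)).map (ρ y) = Rg ρ (f (σ i))}
      mul_mem' := by
        rintro x y ⟨σ, hσ⟩ ⟨τ, hτ⟩
        refine ⟨σ * τ, fun i => ?_⟩
        rw [map_mul, Module.End.mul_eq_comp, Submodule.map_comp, hτ, hσ]
        rfl
      one_mem' := ⟨1, fun i => by
        rw [map_one, Module.End.one_eq_id, Submodule.map_id]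
        rfl⟩
      inv_mem' := by
        rintro x ⟨σ, hσ⟩
        refine ⟨σ⁻¹, fun i => ?_⟩
        have h1 := hσ (σ⁻¹ i)
        rw [show σ (σ⁻¹ i) = i from σ.apply_symm_apply i] at h1
        rw [← h1, ← Submodule.map_comp, ← Module.End.mul_eq_comp, ← map_mul, inv_mul_cancel, map_one,
          Module.End.one_eq_id, Submodule.map_id] }
  have hinj : ∀ {i j}, Rg ρ (f i) = Rg ρ (f j) → i = j := fun h => frame_inj D ht htF hf h
  have hmapinj : ∀ y : Y, Function.Injective (fun W : Submodule F V => W.map (ρ y)) := by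
    intro y W W' h
    have h1 := congrArg (fun U : Submodule F V => U.map (ρ y⁻¹)) h
    simp only [← Submodule.map_comp, ← Module.End.mul_eq_comp, ← map_mul, inv_mul_cancel, map_one,
      Module.End.one_eq_id, Submodule.map_id] at h1
    exact h1
  choose s hs using fun y : N => y.2
  have huniq : ∀ (y : N) (σ : Equiv.Perm (Fin m)), (∀ i, (Rg ρ (f i)).map (ρ y) = Rg ρ (f (σ i))) → s y = σ := by
    intro y σ hσ
    ext i
    have h1 := (hs y i).symm.trans (hσ i)
    rw [hinj h1]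
  let φ : N →* Equiv.Perm (Fin m) :=
    { toFun := s
      map_one' := huniq 1 1 fun i => by
        show (Rg ρ (f i)).map (ρ (1 : Y)) = _
        rw [map_one, Module.End.one_eq_id, Submodule.map_id]
        rfl
      map_mul' := fun x y => huniq (x * y) (s x * s y) fun i => by
        show (Rg ρ (f i)).map (ρ ((x : Y) * (y : Y))) = _
        rw [map_mul, Module.End.mul_eq_comp, Submodule.map_comp, hs y, hs x]
        rfl }
  have hφ : Function.Surjective φ := by
    intro σ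
    obtain ⟨y, hy⟩ := hf.perm σ
    have h1 : ∀ i, (Rg ρ (f i)).map (ρ y) = Rg ρ (f (σ i)) := fun i => by rw [← hy i, Rg_conj]
    exact ⟨⟨y, σ, h1⟩, huniq _ σ h1⟩
  have hHN : H ≤ N := by
    intro h hh
    choose g hg using hst h hh
    have hgi : Function.Injective g := by
      intro i j hij
      apply hinj
      apply hmapinj h
      show (Rg ρ (f i)).map (ρ h) = (Rg ρ (f j)).map (ρ h)
      rw [hg, hg, hij]
    exact ⟨Equiv.ofBijective g (Finite.injective_iff_bijective.mp hgi), fun i => hg i⟩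
  refine ⟨φ.comp (Subgroup.inclusion hHN), fun h i => hs (Subgroup.inclusion hHN h) i, ?_⟩
  have h0 : (φ.comp (Subgroup.inclusion hHN)).range = (H.subgroupOf N).map φ := by
    ext σ
    constructor
    · rintro ⟨h, rfl⟩
      exact ⟨Subgroup.inclusion hHN h, h.2, rfl⟩
    · rintro ⟨h, hh, rfl⟩
      exact ⟨⟨h, hh⟩, rfl⟩
  rw [h0]
  refine ⟨fun p hp hd => ?_, fun p hp hpH hd => ?_⟩
  · have h1 : Nat.card ((H.subgroupOf N).map φ) ∣ Nat.card (H.subgroupOf N) :=
      Subgroup.card_map_dvd (H.subgroupOf N) φ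
    have h2 : Nat.card (H.subgroupOf N) = Nat.card H := Nat.card_congr (Subgroup.subgroupOfEquivOfLe hHN).toEquiv
    rw [h2] at h1
    exact hH.1 p hp (hd.trans h1)
  · have h1 : ((H.subgroupOf N).map φ).index ∣ (H.subgroupOf N).index := Subgroup.index_map_dvd _ hφ
    have h2 : H.relIndex N ∣ H.index := ⟨N.index, (Subgroup.relIndex_mul_index hHN).symm⟩
    exact hH.2 p hp hpH (hd.trans (h1.trans h2))

/-- the kernel -/
theorem ker_card (D : LinDat ρ e X) (ht : t.Prime) (htF : (t : F) ≠ 0) (hf : Fm ρ e H t m f) {N : Subgroup Y}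
    (hN : ∀ h ∈ N, ∀ i, ∃ j : ℕ, h * f i * h⁻¹ = f i ^ j) (u : (ZMod t)ˣ)
    (hu : ∀ h ∈ N, ∀ (i : Fin m) (j : ℕ), h * f i * h⁻¹ = f i ^ j → ∃ k : ℕ, (j : ZMod t) = (u : ZMod t) ^ k) :
    (centralizer (Set.range f)).relIndex N ∣ orderOf u ^ m := by
  have := Fact.mk ht
  have hord : ∀ i, orderOf (f i) = t := fun i => orderOf_eq_prime (hf.isZ i).1 (ne_one D ht htF (hf.isZ i))
  have hpow : ∀ i (a b : ℕ), f i ^ a = f i ^ b ↔ (a : ZMod t) = (b : ZMod t) := by
    intro i a b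
    rw [pow_eq_pow_iff_modEq, hord, ZMod.natCast_eq_natCast_iff]
  choose J hJ using fun (h : N) (i : Fin m) => hN h.1 h.2 i
  have hconj : ∀ (h g : Y) (i : Fin m) (a b : ℕ), h * f i * h⁻¹ = f i ^ a → g * f i * g⁻¹ = f i ^ b →
      (h * g) * f i * (h * g)⁻¹ = f i ^ (a * b) := by
    intro h g i a b h1 h2
    have e1 : (h * g) * f i * (h * g)⁻¹ = h * (g * f i * g⁻¹) * h⁻¹ := by group
    rw [e1, h2, ← _root_.conj_pow, h1, pow_mul]
  let ψ (i : Fin m) : N →* ZMod t :=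
    { toFun := fun h => (J h i : ZMod t)
      map_one' := by
        have h1 := hJ 1 i
        rw [Subgroup.coe_one, one_mul, inv_one, mul_one] at h1
        nth_rewrite 1 [← pow_one (f i)] at h1
        rw [hpow, Nat.cast_one] at h1
        exact h1.symm
      map_mul' := fun h g => by
        have h1 := hconj h g i _ _ (hJ h i) (hJ g i)
        have h2 := hJ (h * g) i
        rw [Subgroup.coe_mul, h1, hpow, Nat.cast_mul] at h2
        exact h2.symm }
  have hmem : ∀ (i : Fin m) (h : N), (ψ i).toHomUnits h ∈ zpowers u := by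
    intro i h
    obtain ⟨k, hk⟩ := hu h.1 h.2 i _ (hJ h i)
    refine ⟨(k : ℤ), Units.ext ?_⟩
    change ((u ^ (k : ℤ) : (ZMod t)ˣ) : ZMod t) = (J h i : ZMod t)
    rw [zpow_natCast, Units.val_pow_eq_pow_val]
    exact hk.symm
  let θ : N →* (Fin m → zpowers u) := MonoidHom.mk' (fun h i => ⟨(ψ i).toHomUnits h, hmem i h⟩) (by
    intro a b
    funext i
    exact Subtype.ext (map_mul _ _ _))
  have hk : θ.ker = (centralizer (Set.range f)).subgroupOf N := by
    ext h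
    rw [MonoidHom.mem_ker, mem_subgroupOf, mem_centralizer_iff]
    have h1 : θ h = 1 ↔ ∀ i, (J h i : ZMod t) = 1 := by
      constructor
      · intro h1 i
        have h2 := congrArg (fun g : Fin m → zpowers u => ((g i : (ZMod t)ˣ) : ZMod t)) h1
        exact h2
      · intro h1
        funext i
        exact Subtype.ext (Units.ext (h1 i))
    rw [h1]
    constructor
    · rintro h2 _ ⟨i, rfl⟩
      have h3 := hJ h i
      have h4 := h2 i
      rw [← Nat.cast_one, ← hpow i, pow_one] at h4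
      rw [h4, mul_inv_eq_iff_eq_mul] at h3
      exact h3.symm
    · intro h2 i
      have h3 := h2 (f i) ⟨i, rfl⟩
      have h4 : (h : Y) * f i * (h : Y)⁻¹ = f i := by rw [← h3, mul_inv_cancel_right]
      rw [hJ h i] at h4
      rw [← Nat.cast_one, ← hpow i, pow_one]
      exact h4
  have hc : Nat.card (Fin m → zpowers u) = orderOf u ^ m := by
    rw [Nat.card_fun, Nat.card_zpowers, Nat.card_eq_fintype_card, Fintype.card_fin]
  have h2 : (centralizer (Set.range f)).relIndex N = Nat.card θ.range := by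
    rw [relIndex, ← hk, Subgroup.index_ker]
  rw [h2, ← hc]
  exact Subgroup.card_subgroup_dvd_card _

end gen

/-- an odd Hall subgroup of a symmetric group involves at most one prime -/
theorem one_prime {π : Set ℕ} (h2 : 2 ∉ π) {a : ℕ} (hE : IsEPiGroup π (Equiv.Perm (Fin a))) {r s : ℕ} (hr : r.Prime)
    (hs : s.Prime) (hrπ : r ∈ π) (hsπ : s ∈ π) (hra : r ≤ a) (hsa : s ≤ a) : r = s := by
  by_contra hne
  have h1 : 2 ≤ a := hr.two_le.trans hra
  have hr3 : r ≠ 2 := fun h => h2 (h ▸ hrπ)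
  have hr' := hr.two_le
  rcases (Cfsg.Agent.S2536.result a π ⟨r, s, hr, hs, hne, hrπ, hsπ, hra, hsa⟩ ⟨2, Nat.prime_two, h1, h2⟩).1 hE with
    ⟨-, h⟩ | ⟨-, h⟩
  · exact h2 ((h 2 Nat.prime_two h1).2 (by omega))
  · exact h2 ((h 2 Nat.prime_two h1).2 (Or.inl rfl))

/-- **Task G** -/
theorem relIndex_Cz {F : Type} [Field F] [Fintype F] {n q a t : ℕ} {π : Set ℕ} (hF : Fintype.card F = q ^ 2)
    (h2 : 2 ∉ π) (hp : ∀ r ∈ π, r.Prime → (r : F) ≠ 0)
    {H : Subgroup (GU n F q)} (hH : IsPiHall π H) {z : Fin a → GU n F q} (hz : Fr q H t a z)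
    (hpow : ∀ (h : GU n F q) (i : Fin a) (j : ℕ), h * z i * h⁻¹ = z i ^ j → ∃ k : ℕ, (j : ZMod t) = (-(q : ZMod t)) ^ k) :
    ∃ s k : ℕ, s.Prime ∧ (∀ r ∈ π, r.Prime → r ≤ a → r = s) ∧ (Cz z).relIndex H ∣ eU q t ^ a * s ^ k ∧
      s ^ k ∣ a.factorial ∧
      ((∃ i, ∀ h ∈ H, (Rg (rU n F q) (z i)).map (rU n F q h) = Rg (rU n F q) (z i)) ∨ 1 ≤ k ∧ s ∈ π ∧ s ∣ a) := by
  have ht := hz.ht
  have := Fact.mk ht
  have D := linDat_GU (n := n) hF
  have ha : 0 < a := pos D ht hz.odd hz.ne (hz.dvd.trans (card_subgroup_dvd_card H)) hz.fm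
  have hHC : HC F H := ⟨S0205.result (odd_of_piN h2 hH.1), fun r hr hd => ⟨by
    rintro rfl
    exact h2 (hH.1 2 hr hd), hp r (hH.1 r hr hd) hr⟩⟩
  obtain ⟨φ, hφ, hφH⟩ := exists_perm D ht hz.ne hz.fm hz.st hH
  have hE : IsEPiGroup π (Equiv.Perm (Fin a)) := ⟨_, hφH⟩
  obtain ⟨s, hs, hs1⟩ : ∃ s : ℕ, s.Prime ∧ ∀ r ∈ π, r.Prime → r ≤ a → r = s := by
    by_cases h : ∃ s ∈ π, s.Prime ∧ s ≤ a
    · obtain ⟨s, hsπ, hs, hsa⟩ := h
      exact ⟨s, hs, fun r hrπ hr hra => one_prime h2 hE hr hs hrπ hsπ hra hsa⟩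
    · push Not at h
      exact ⟨2, Nat.prime_two, fun r hrπ hr hra => absurd hra (by have := h r hrπ hr; omega)⟩
  have hcard : Nat.card φ.range ∣ a.factorial := by
    have := Subgroup.card_subgroup_dvd_card φ.range
    rwa [Nat.card_perm, Nat.card_fin] at this
  obtain ⟨k, hk⟩ : ∃ k : ℕ, Nat.card φ.range = s ^ k := by
    refine ⟨_, Nat.eq_prime_pow_of_unique_prime_dvd Nat.card_pos.ne' fun {d} hd hdP => ?_⟩
    exact hs1 d (hφH.1 d hd hdP) hd ((Nat.Prime.dvd_factorial hd).1 (hdP.trans hcard))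
  have := Fact.mk hs
  -- the unit
  have hq0 : -(q : ZMod t) ≠ 0 := q_ne hF ht hz.ne
  let u : (ZMod t)ˣ := Units.mk0 (-(q : ZMod t)) hq0
  have hou : orderOf u = eU q t := by rw [← orderOf_units]; rfl
  let N : Subgroup (GU n F q) := φ.ker.map H.subtype
  have hNH : N ≤ H := Subgroup.map_subtype_le _
  have hCN : Cz z ⊓ H ≤ N := by
    rintro h ⟨h1, h3⟩
    refine ⟨⟨h, h3⟩, ?_, rfl⟩
    rw [SetLike.mem_coe, MonoidHom.mem_ker]
    ext i
    congr 1
    apply frame_inj D ht hz.ne hz.fm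
    rw [← hφ ⟨h, h3⟩ i]
    have h4 : h * z i * h⁻¹ = z i := by
      rw [mul_inv_eq_iff_eq_mul]
      exact (mem_centralizer_iff.1 h1 (z i) ⟨i, rfl⟩).symm
    change (Rg (rU n F q) (z i)).map (rU n F q h) = _
    rw [← Rg_conj, h4]
    rfl
  have hNc : ∀ h ∈ N, ∀ i, ∃ j : ℕ, h * z i * h⁻¹ = z i ^ j := by
    rintro _ ⟨h, hh, rfl⟩ i
    refine conj_pow D hHC ht hz.odd hz.ne (hz.fm.isZ i) (hz.fm.mem i) h.2 ?_
    have := hφ h i
    rw [SetLike.mem_coe, MonoidHom.mem_ker] at hh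
    rw [hh] at this
    exact this
  have h3 := ker_card D ht hz.ne hz.fm hNc u (fun h _ i j hj => by
    obtain ⟨k, hk⟩ := hpow h i j hj
    exact ⟨k, hk⟩)
  rw [hou] at h3
  have h4 : (Cz z).relIndex H = (Cz z).relIndex N * N.relIndex H := by
    rw [← Subgroup.inf_relIndex_right (Cz z) H, ← Subgroup.relIndex_mul_relIndex _ _ _ hCN hNH]
    congr 1
    rw [← Subgroup.inf_relIndex_right (Cz z) N, ← Subgroup.inf_relIndex_right (Cz z ⊓ H) N]
    congr 1
    rw [inf_assoc, inf_eq_right.2 hNH]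
  have h5 : N.relIndex H = s ^ k := by
    rw [← hk]
    have : N.subgroupOf H = φ.ker := by
      rw [subgroupOf, Subgroup.comap_map_eq_self_of_injective H.subtype_injective]
    rw [relIndex, this, Subgroup.index_ker]
  refine ⟨s, k, hs, hs1, ?_, hk ▸ hcard, ?_⟩
  · rw [h4, h5]
    exact Nat.mul_dvd_mul_right h3 _
  · by_cases hfix : ∃ i, ∀ h ∈ H, (Rg (rU n F q) (z i)).map (rU n F q h) = Rg (rU n F q) (z i)
    · exact Or.inl hfix
    · right
      have hfix' : ∀ i : Fin a, ∃ g : φ.range, (g : Equiv.Perm (Fin a)) i ≠ i := by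
        intro i
        by_contra hcon
        push Not at hcon
        apply hfix
        refine ⟨i, fun h hh => ?_⟩
        have h6 := hφ ⟨h, hh⟩ i
        rw [hcon ⟨φ ⟨h, hh⟩, ⟨_, rfl⟩⟩] at h6
        exact h6
      have hk1 : 1 ≤ k := by
        by_contra hk0
        have : k = 0 := by omega
        rw [this, pow_zero] at hk
        obtain ⟨g, hg⟩ := hfix' ⟨0, ha⟩
        have h6 := (Nat.card_eq_one_iff_unique.1 hk).1
        apply hg
        rw [show g = 1 from Subsingleton.elim _ _]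
        rfl
      have hsπ : s ∈ π := hφH.1 s hs (hk ▸ dvd_pow_self s (by omega))
      refine ⟨hk1, hsπ, ?_⟩
      by_contra hsa
      have hpg : IsPGroup s φ.range := IsPGroup.of_card hk
      obtain ⟨i, hi⟩ := hpg.nonempty_fixed_point_of_prime_not_dvd_card (Fin a) (by
        rw [Nat.card_eq_fintype_card, Fintype.card_fin]
        exact hsa)
      obtain ⟨g, hg⟩ := hfix' i
      exact hg (hi g)

end Cfsg.Agent.H125.DPi.RelCz
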