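import Cfsg.Agent.H233.RC.RedA
import Cfsg.Agent.H817.DPi.Def
import Cfsg.Agent.H206.DPi.TwoTrans

/-!
# S4247, row L (`PSL_n`), L1: semilinear lifts of automorphisms of `PSL_n(F)` (helper125)

* `Sem F V` : the semilinear bijections of `V`, a subgroup of `Equiv.Perm V`;
* `Th e : Sem F (Fin n → F) →* MulAut S` for `e : S ≃* PSL_n(F)`; `Th_apply`, `Th_SL`, `Th_ker`, `Th_index`;
* `hat e D` : the preimage of `D : Subgroup (MulAut S)` in `Equiv.Perm (Fin n → F)`.
-/

set_option autoImplicit false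
set_option linter.unusedSectionVars false

namespace Cfsg.Agent.H125.DPi

open Module Cfsg Cfsg.Agent.H233.RC Cfsg.Agent.H202.RC Cfsg.Agent.H988.CPi Cfsg.Agent.H571.RV Cfsg.Agent.H817.DPi

universe u

/-- the semilinear bijections -/
def Sem (F V : Type) [Field F] [AddCommGroup V] [Module F V] : Subgroup (Equiv.Perm V) where
  carrier := {g | (∀ v w, g (v + w) = g v + g w) ∧ ∃ σ : F ≃+* F, ∀ (c : F) v, g (c • v) = σ c • g v}
  mul_mem' := by
    rintro a b ⟨ha, σ, hσ⟩ ⟨hb, τ, hτ⟩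
    refine ⟨fun v w => ?_, τ.trans σ, fun c v => ?_⟩
    · rw [Equiv.Perm.mul_apply, hb, ha]; rfl
    · rw [Equiv.Perm.mul_apply, hτ, hσ]; rfl
  one_mem' := ⟨fun _ _ => rfl, RingEquiv.refl F, fun _ _ => rfl⟩
  inv_mem' := by
    rintro a ⟨ha, σ, hσ⟩
    have h : ∀ v, a (a⁻¹ v) = v := a.apply_symm_apply
    refine ⟨fun v w => ?_, σ.symm, fun c v => ?_⟩
    · apply a.injective
      rw [ha, h, h, h]
    · apply a.injective
      rw [hσ, h, h, σ.apply_symm_apply]

section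

variable {F V : Type} [Field F] [AddCommGroup V] [Module F V]

theorem mem_Sem {g : Equiv.Perm V} :
    g ∈ Sem F V ↔ (∀ v w, g (v + w) = g v + g w) ∧ ∃ σ : F ≃+* F, ∀ (c : F) v, g (c • v) = σ c • g v := Iff.rfl

/-- the additive bijection -/
def adE {g : Equiv.Perm V} (h : g ∈ Sem F V) : V ≃+ V := { g with map_add' := h.1 }

theorem adE_apply {g : Equiv.Perm V} (h : g ∈ Sem F V) (v : V) : adE h v = g v := rfl

theorem adE_SL {g : Equiv.Perm V} (h : g ∈ Sem F V) : ∃ σ : F ≃+* F, SL σ (adE h) := h.2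

theorem mem_Sem_of {f : V ≃+ V} {σ : F ≃+* F} (h : SL σ f) : f.toEquiv ∈ Sem F V :=
  ⟨fun v w => f.map_add v w, σ, h⟩

/-- scalars -/
theorem Sem_of_linear (f : V ≃ₗ[F] V) : f.toEquiv ∈ Sem F V :=
  ⟨fun v w => f.map_add v w, RingEquiv.refl F, fun c v => f.map_smul c v⟩

end

section mat

variable {F : Type} [Field F] {n : ℕ}

theorem mulVec_eq {A B : Matrix.SpecialLinearGroup (Fin n) F} (h : ∀ v, A.1.mulVec v = B.1.mulVec v) : A = B := by
  apply Subtype.ext
  apply Matrix.toLin'.injective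
  apply LinearMap.ext
  intro v
  rw [Matrix.toLin'_apply, Matrix.toLin'_apply]
  exact h v

theorem exists_cj (g : Sem F (Fin n → F)) (S : Matrix.SpecialLinearGroup (Fin n) F) :
    ∃ S' : Matrix.SpecialLinearGroup (Fin n) F, ∀ v, S'.1.mulVec (g.1 v) = g.1 (S.1.mulVec v) := by
  obtain ⟨σ, h⟩ := adE_SL g.2
  exact exists_conj h S

/-- conjugation -/
noncomputable def cjS (g : Sem F (Fin n → F)) (S : Matrix.SpecialLinearGroup (Fin n) F) :
    Matrix.SpecialLinearGroup (Fin n) F := (exists_cj g S).choose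

theorem cjS_apply (g : Sem F (Fin n → F)) (S : Matrix.SpecialLinearGroup (Fin n) F) (v : Fin n → F) :
    (cjS g S).1.mulVec (g.1 v) = g.1 (S.1.mulVec v) := (exists_cj g S).choose_spec v

theorem cjS_eq {g : Sem F (Fin n → F)} {S S' : Matrix.SpecialLinearGroup (Fin n) F}
    (h : ∀ v, S'.1.mulVec (g.1 v) = g.1 (S.1.mulVec v)) : cjS g S = S' := by
  apply mulVec_eq
  intro v
  obtain ⟨w, rfl⟩ := g.1.surjective v
  rw [cjS_apply, h]

theorem cjS_mul (g : Sem F (Fin n → F)) (S T : Matrix.SpecialLinearGroup (Fin n) F) :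
    cjS g (S * T) = cjS g S * cjS g T := by
  apply cjS_eq
  intro v
  rw [Matrix.SpecialLinearGroup.coe_mul, Matrix.SpecialLinearGroup.coe_mul, ← Matrix.mulVec_mulVec,
    ← Matrix.mulVec_mulVec, cjS_apply, cjS_apply]

theorem cjS_comp (g h : Sem F (Fin n → F)) (S : Matrix.SpecialLinearGroup (Fin n) F) :
    cjS (g * h) S = cjS g (cjS h S) := by
  apply cjS_eq
  intro v
  rw [show (g * h).1 v = g.1 (h.1 v) from rfl, cjS_apply, cjS_apply]
  rfl

theorem cjS_one (S : Matrix.SpecialLinearGroup (Fin n) F) : cjS (1 : Sem F (Fin n → F)) S = S :=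
  cjS_eq fun _ => rfl

/-- conjugation on `SL_n` -/
noncomputable def cjE (g : Sem F (Fin n → F)) :
    Matrix.SpecialLinearGroup (Fin n) F ≃* Matrix.SpecialLinearGroup (Fin n) F where
  toFun := cjS g
  invFun := cjS g⁻¹
  left_inv S := by rw [← cjS_comp, inv_mul_cancel, cjS_one]
  right_inv S := by rw [← cjS_comp, mul_inv_cancel, cjS_one]
  map_mul' := cjS_mul g

theorem cjE_apply (g : Sem F (Fin n → F)) (S : Matrix.SpecialLinearGroup (Fin n) F) : cjE g S = cjS g S := rfl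

theorem cjE_center (g : Sem F (Fin n → F)) : (Subgroup.center (Matrix.SpecialLinearGroup (Fin n) F)).map
    (cjE g : Matrix.SpecialLinearGroup (Fin n) F →* Matrix.SpecialLinearGroup (Fin n) F) =
    Subgroup.center (Matrix.SpecialLinearGroup (Fin n) F) := by
  apply le_antisymm
  · rintro _ ⟨z, hz, rfl⟩
    rw [SetLike.mem_coe, Subgroup.mem_center_iff] at hz
    rw [Subgroup.mem_center_iff]
    intro y
    obtain ⟨x, rfl⟩ := (cjE g).surjective y
    have := congrArg (cjE g) (hz x)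
    rw [map_mul, map_mul] at this
    exact this
  · intro z hz
    obtain ⟨x, rfl⟩ := (cjE g).surjective z
    refine ⟨x, ?_, rfl⟩
    rw [SetLike.mem_coe, Subgroup.mem_center_iff]
    rw [Subgroup.mem_center_iff] at hz
    intro y
    apply (cjE g).injective
    rw [map_mul, map_mul]
    exact hz _

/-- the automorphism of `PSL_n` -/
noncomputable def pE (g : Sem F (Fin n → F)) : MulAut (Matrix.ProjectiveSpecialLinearGroup (Fin n) F) :=
  QuotientGroup.congr _ _ (cjE g) (cjE_center g)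

theorem pE_mk (g : Sem F (Fin n → F)) (S : Matrix.SpecialLinearGroup (Fin n) F) :
    pE g (QuotientGroup.mk S) = QuotientGroup.mk (cjS g S) := rfl

/-- the homomorphism to `Aut PSL_n(F)` -/
noncomputable def pH : Sem F (Fin n → F) →* MulAut (Matrix.ProjectiveSpecialLinearGroup (Fin n) F) where
  toFun := pE
  map_one' := by
    apply MulEquiv.ext
    intro t
    obtain ⟨S, rfl⟩ := QuotientGroup.mk_surjective t
    rw [pE_mk, cjS_one]
    rfl
  map_mul' g h := by
    apply MulEquiv.ext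
    intro t
    obtain ⟨S, rfl⟩ := QuotientGroup.mk_surjective t
    rw [pE_mk, cjS_comp, MulAut.mul_apply, pE_mk, pE_mk]

variable {S : Type u} [Group S]

/-- **the action on `S ≃* PSL_n(F)`** -/
noncomputable def Th (e : S ≃* Matrix.ProjectiveSpecialLinearGroup (Fin n) F) : Sem F (Fin n → F) →* MulAut S :=
  (MulAut.congr e.symm).toMonoidHom.comp pH

theorem Th_e (e : S ≃* Matrix.ProjectiveSpecialLinearGroup (Fin n) F) (g : Sem F (Fin n → F)) (s : S) :
    Th e g s = e.symm (pE g (e s)) := rfl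

theorem Th_mk (e : S ≃* Matrix.ProjectiveSpecialLinearGroup (Fin n) F) (g : Sem F (Fin n → F))
    (x : Matrix.SpecialLinearGroup (Fin n) F) :
    Th e g (e.symm (QuotientGroup.mk x)) = e.symm (QuotientGroup.mk (cjS g x)) := by
  rw [Th_e, e.apply_symm_apply, pE_mk]

/-- the defining property -/
theorem Th_apply (e : S ≃* Matrix.ProjectiveSpecialLinearGroup (Fin n) F) (g : Sem F (Fin n → F))
    {x x' : Matrix.SpecialLinearGroup (Fin n) F} (h : ∀ v, x'.1.mulVec (g.1 v) = g.1 (x.1.mulVec v)) :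
    Th e g (e.symm (QuotientGroup.mk x)) = e.symm (QuotientGroup.mk x') := by
  rw [Th_mk, cjS_eq h]

/-- the permutation given by a matrix -/
noncomputable def mp (x : Matrix.SpecialLinearGroup (Fin n) F) : Equiv.Perm (Fin n → F) :=
  (slE (Pi.basisFun F (Fin n)) x : (Fin n → F) ≃ₗ[F] (Fin n → F)).toEquiv

theorem mp_apply (x : Matrix.SpecialLinearGroup (Fin n) F) (v : Fin n → F) : mp x v = x.1.mulVec v := slE_std x v

theorem mp_mem (x : Matrix.SpecialLinearGroup (Fin n) F) : mp x ∈ Sem F (Fin n → F) := Sem_of_linear _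

theorem Th_SL (e : S ≃* Matrix.ProjectiveSpecialLinearGroup (Fin n) F) (g : Sem F (Fin n → F))
    {x : Matrix.SpecialLinearGroup (Fin n) F} (h : ∀ v, g.1 v = x.1.mulVec v) :
    Th e g = MulAut.conj (e.symm (QuotientGroup.mk x)) := by
  apply MulEquiv.ext
  intro s
  obtain ⟨y, hy⟩ := QuotientGroup.mk_surjective (e s)
  have hs : s = e.symm (QuotientGroup.mk y) := by rw [hy, e.symm_apply_apply]
  rw [hs, MulAut.conj_apply, Th_apply e g (x' := x * y * x⁻¹)]
  · rw [← map_inv, ← map_mul, ← map_mul]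
    rfl
  · intro v
    have h2 : (x * y * x⁻¹ : Matrix.SpecialLinearGroup (Fin n) F).1 * x.1 = x.1 * y.1 := by
      rw [← Matrix.SpecialLinearGroup.coe_mul, inv_mul_cancel_right, Matrix.SpecialLinearGroup.coe_mul]
    rw [h, h, Matrix.mulVec_mulVec, Matrix.mulVec_mulVec, h2]

theorem center_scalar {z : Matrix.SpecialLinearGroup (Fin n) F} (hz : z ∈ Subgroup.center _) :
    ∃ ζ : F, ζ ^ n = 1 ∧ ∀ v, z.1.mulVec v = ζ • v := by
  obtain ⟨r, hr, h⟩ := Matrix.SpecialLinearGroup.mem_center_iff.1 hz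
  rw [Fintype.card_fin] at hr
  refine ⟨r, hr, fun v => ?_⟩
  rw [← h, Matrix.scalar_apply, ← Matrix.smul_one_eq_diagonal, Matrix.smul_mulVec, Matrix.one_mulVec]

/-- elements which fix `e⁻¹ (x)` commute with `x` up to scalars -/
theorem comm_of_fix (e : S ≃* Matrix.ProjectiveSpecialLinearGroup (Fin n) F) (g : Sem F (Fin n → F))
    {x : Matrix.SpecialLinearGroup (Fin n) F}
    (h : Th e g (e.symm (QuotientGroup.mk x)) = e.symm (QuotientGroup.mk x)) :
    ∃ ζ : F, ζ ^ n = 1 ∧ ∀ v, g.1 (x.1.mulVec v) = ζ • x.1.mulVec (g.1 v) := by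
  rw [Th_mk] at h
  have h1 := e.symm.injective h
  have h2 : (x⁻¹ * cjS g x) ∈ Subgroup.center (Matrix.SpecialLinearGroup (Fin n) F) :=
    QuotientGroup.eq.1 h1.symm
  obtain ⟨ζ, hζ, h3⟩ := center_scalar h2
  refine ⟨ζ, hζ, fun v => ?_⟩
  rw [← cjS_apply]
  have h4 : cjS g x = x * (x⁻¹ * cjS g x) := by rw [mul_inv_cancel_left]
  rw [h4, Matrix.SpecialLinearGroup.coe_mul, ← Matrix.mulVec_mulVec, h3, Matrix.mulVec_smul]

theorem Th_ker (hn : 2 ≤ n) (e : S ≃* Matrix.ProjectiveSpecialLinearGroup (Fin n) F) (g : Sem F (Fin n → F)) :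
    Th e g = 1 ↔ ∃ c : F, c ≠ 0 ∧ ∀ v, g.1 v = c • v := by
  constructor
  · intro h
    obtain ⟨σ, hσ⟩ := adE_SL g.2
    have hd : finrank F (Fin n → F) = n := by rw [finrank_fintype_fun_eq_card, Fintype.card_fin]
    refine scalar_of_comm (by rw [hd]; exact hn) hσ fun s => ?_
    obtain ⟨x, rfl⟩ := (slE (Pi.basisFun F (Fin n))).surjective s
    obtain ⟨ζ, -, h1⟩ := comm_of_fix e g (x := x) (by rw [h]; rfl)
    refine ⟨ζ, fun v => ?_⟩
    rw [slE_std, slE_std]
    exact h1 v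
  · rintro ⟨c, hc, h⟩
    apply MulEquiv.ext
    intro s
    obtain ⟨y, hy⟩ := QuotientGroup.mk_surjective (e s)
    have hs : s = e.symm (QuotientGroup.mk y) := by rw [hy, e.symm_apply_apply]
    rw [hs]
    refine Th_apply e g fun v => ?_
    rw [h, h, Matrix.mulVec_smul]

theorem mem_range_of_gamma {β : MulAut (Matrix.ProjectiveSpecialLinearGroup (Fin n) F)}
    (hβ : β ∈ Cfsg.gammaPSL n F) : β ∈ (pH (F := F) (n := n)).range := by
  obtain ⟨f, σ, hf, hl⟩ := exists_liftAut hβ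
  refine ⟨⟨f.toEquiv, mem_Sem_of hf⟩, ?_⟩
  apply MulEquiv.ext
  intro t
  obtain ⟨x, rfl⟩ := QuotientGroup.mk_surjective t
  change pE _ _ = _
  rw [pE_mk]
  symm
  apply hl
  intro v
  exact cjS_apply (⟨f.toEquiv, mem_Sem_of hf⟩ : Sem F (Fin n → F)) x v

/-- **index at most two** -/
theorem Th_index [Fintype F] (hn : 3 ≤ n) (e : S ≃* Matrix.ProjectiveSpecialLinearGroup (Fin n) F) {a b : MulAut S}
    (ha : a ∉ (Th e).range) (hb : b ∉ (Th e).range) : a * b ∈ (Th e).range := by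
  have key : ∀ c : MulAut S, c ∉ (Th e).range → MulAut.congr e c ∉ Cfsg.gammaPSL n F := by
    intro c hc h
    apply hc
    obtain ⟨g, hg⟩ := mem_range_of_gamma h
    refine ⟨g, ?_⟩
    change MulAut.congr e.symm (pH g) = c
    rw [hg]
    apply MulEquiv.ext
    intro s
    simp
  have h1 := gamma_index (by omega) (by omega) (key a ha) (key b hb)
  rw [← map_mul] at h1
  obtain ⟨g, hg⟩ := mem_range_of_gamma h1
  refine ⟨g, ?_⟩
  change MulAut.congr e.symm (pH g) = _
  rw [hg]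
  apply MulEquiv.ext
  intro s
  simp

/-- the preimage of a group of automorphisms in the group of permutations of `V` -/
noncomputable def hat (e : S ≃* Matrix.ProjectiveSpecialLinearGroup (Fin n) F) (D : Subgroup (MulAut S)) :
    Subgroup (Equiv.Perm (Fin n → F)) :=
  (D.comap (Th e)).map (Sem F (Fin n → F)).subtype

theorem mem_hat {e : S ≃* Matrix.ProjectiveSpecialLinearGroup (Fin n) F} {D : Subgroup (MulAut S)}
    {g : Equiv.Perm (Fin n → F)} : g ∈ hat e D ↔ ∃ h : g ∈ Sem F (Fin n → F), Th e ⟨g, h⟩ ∈ D := by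
  constructor
  · rintro ⟨x, hx, rfl⟩
    exact ⟨x.2, hx⟩
  · rintro ⟨h, h1⟩
    exact ⟨⟨g, h⟩, h1, rfl⟩

theorem hat_le_Sem (e : S ≃* Matrix.ProjectiveSpecialLinearGroup (Fin n) F) (D : Subgroup (MulAut S)) :
    hat e D ≤ Sem F (Fin n → F) := fun _ h => (mem_hat.1 h).1

theorem hat_mono (e : S ≃* Matrix.ProjectiveSpecialLinearGroup (Fin n) F) {D D' : Subgroup (MulAut S)} (h : D ≤ D') :
    hat e D ≤ hat e D' := fun _ hg => by
  obtain ⟨h1, h2⟩ := mem_hat.1 hg
  exact mem_hat.2 ⟨h1, h h2⟩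

theorem hat_add {e : S ≃* Matrix.ProjectiveSpecialLinearGroup (Fin n) F} {D : Subgroup (MulAut S)} :
    ∀ h ∈ hat e D, ∀ v w : Fin n → F, h (v + w) = h v + h w := fun _ h => (hat_le_Sem e D h).1

theorem hat_semi {e : S ≃* Matrix.ProjectiveSpecialLinearGroup (Fin n) F} {D : Subgroup (MulAut S)} :
    ∀ h ∈ hat e D, ∃ σ : F ≃+* F, ∀ (c : F) (v : Fin n → F), h (c • v) = σ c • h v := fun _ h => (hat_le_Sem e D h).2

theorem mp_mem_hat {e : S ≃* Matrix.ProjectiveSpecialLinearGroup (Fin n) F} {D : Subgroup (MulAut S)}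
    {x : Matrix.SpecialLinearGroup (Fin n) F} :
    mp x ∈ hat e D ↔ MulAut.conj (e.symm (QuotientGroup.mk x)) ∈ D := by
  rw [mem_hat]
  constructor
  · rintro ⟨h, h1⟩
    rwa [Th_SL e ⟨mp x, h⟩ (x := x) (mp_apply x)] at h1
  · intro h
    exact ⟨mp_mem x, by rwa [Th_SL e ⟨mp x, mp_mem x⟩ (x := x) (mp_apply x)]⟩

theorem scal_mem_hat {e : S ≃* Matrix.ProjectiveSpecialLinearGroup (Fin n) F} {D : Subgroup (MulAut S)}
    {g : Equiv.Perm (Fin n → F)} {c : F} (hn : 2 ≤ n) (hc : c ≠ 0) (hg : ∀ v, g v = c • v) : g ∈ hat e D := by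
  have h1 : g ∈ Sem F (Fin n → F) :=
    ⟨fun v w => by rw [hg, hg, hg, smul_add], RingEquiv.refl F, fun a v => by
      rw [hg, hg, smul_comm]; rfl⟩
  refine mem_hat.2 ⟨h1, ?_⟩
  rw [(Th_ker hn e ⟨g, h1⟩).2 ⟨c, hc, hg⟩]
  exact one_mem _

end mat

end Cfsg.Agent.H125.DPi
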